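import Mathlib

/-!
# Cartier-type lemma: abstract commutative algebra part (helper6)

`A` a commutative algebra over a field `k` of characteristic zero with an augmentation
`ev : A →ₐ[k] k` with kernel `I`, such that every point derivation at `ev` is induced by a
derivation of `A`.  Then nilpotent elements lie in all powers of `I`.

The first section (`Abstract`) and `pow_sub_pow_mem` are adapted from helper9's `Cartier1`/`Cartier3`
(copied to keep this library self-contained).
-/

namespace Groth.Agent.Lib.Helper6.Cartier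

open MvPolynomial

universe u v w

section Abstract

variable {k : Type u} [Field k] {A : Type v} [CommRing A] [Algebra k A]
variable {σ : Type w} [Fintype σ] [DecidableEq σ]

/-- chain rule -/
lemma chain (D : Derivation k A A) (x : σ → A) (F : MvPolynomial σ k) :
    D (aeval x F) = ∑ j, aeval x (pderiv j F) * D (x j) := by
  induction F using MvPolynomial.induction_on with
  | C a => simp
  | add p q hp hq => simp only [map_add, hp, hq, add_mul, Finset.sum_add_distrib]
  | mul_X p i hp =>
    have h1 : ∀ j, aeval x (pderiv j (p * X i)) =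
        aeval x p * (if j = i then 1 else 0) + x i * aeval x (pderiv j p) := by
      intro j
      rw [Derivation.leibniz, pderiv_X]
      simp only [smul_eq_mul, map_add, map_mul, aeval_X, Pi.single_apply]
      by_cases h : j = i
      · subst h; simp
      · rw [if_neg (Ne.symm h), if_neg h]; simp
    rw [map_mul, aeval_X, Derivation.leibniz, hp]
    simp only [h1, add_mul, Finset.sum_add_distrib, smul_eq_mul]
    rw [Finset.mul_sum]
    congr 1
    · rw [Finset.sum_eq_single i]
      · simp
      · intro j _ hj; simp [hj]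
      · intro h; exact absurd (Finset.mem_univ i) h
    · apply Finset.sum_congr rfl
      intro j _
      ring

/-- a derivation maps `I^(n+1)` into `I^n` -/
lemma deriv_mem_pow (D : Derivation k A A) (I : Ideal A) (n : ℕ) {a : A} (ha : a ∈ I ^ (n + 1)) :
    D a ∈ I ^ n := by
  induction n generalizing a with
  | zero => simp
  | succ n ih =>
    rw [pow_succ] at ha
    refine Submodule.mul_induction_on ha ?_ ?_
    · intro b hb c hc
      rw [Derivation.leibniz]
      refine Ideal.add_mem _ ?_ ?_
      · rw [smul_eq_mul]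
        exact Ideal.mul_mem_right _ _ hb
      · rw [smul_eq_mul, pow_succ, mul_comm c]
        exact Ideal.mul_mem_mul (ih hb) hc
    · intro y z hy hz
      rw [map_add]
      exact Ideal.add_mem _ hy hz

omit [Fintype σ] [DecidableEq σ] in
lemma aeval_monomial_mem (I : Ideal A) (x : σ → A) (hx : ∀ i, x i ∈ I) (d : σ →₀ ℕ) (c : k) :
    aeval x (monomial d c) ∈ I ^ d.degree := by
  rw [aeval_monomial]
  apply Ideal.mul_mem_left
  rw [Finsupp.prod, Finsupp.degree_apply, ← Finset.prod_pow_eq_pow_sum]
  apply Ideal.prod_mem_prod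
  intro i _
  exact Ideal.pow_mem_pow (hx i) _

omit [Fintype σ] [DecidableEq σ] in
lemma aeval_mem_pow (I : Ideal A) (x : σ → A) (hx : ∀ i, x i ∈ I) {n : ℕ}
    {F : MvPolynomial σ k} (hF : F.IsHomogeneous n) : aeval x F ∈ I ^ n := by
  rw [← F.support_sum_monomial_coeff, map_sum]
  apply Ideal.sum_mem
  intro d hd
  have h1 : d.degree = n := by
    by_contra h
    exact (MvPolynomial.mem_support_iff.mp hd) (hF.coeff_eq_zero h)
  rw [← h1]
  exact aeval_monomial_mem I x hx d _

/-- The key lemma. -/
theorem homog_eq_zero (I : Ideal A) (hI : ∀ c : k, algebraMap k A c ∈ I → c = 0)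
    (x : σ → A) (hx : ∀ i, x i ∈ I) (D : σ → Derivation k A A)
    (hD : ∀ i j, D i (x j) - (if i = j then 1 else 0) ∈ I) :
    ∀ (n : ℕ), (n.factorial : k) ≠ 0 → ∀ F : MvPolynomial σ k, F.IsHomogeneous n →
      aeval x F ∈ I ^ (n + 1) → F = 0 := by
  intro n
  induction n with
  | zero =>
    intro _ F hF hFI
    have h1 := (MvPolynomial.totalDegree_zero_iff_isHomogeneous (p := F)).mpr hF
    rw [totalDegree_eq_zero_iff_eq_C] at h1
    rw [h1, aeval_C, zero_add, pow_one] at hFI
    rw [h1, hI _ hFI, map_zero]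
  | succ m ih =>
    intro hm F hF hFI
    rw [Nat.factorial_succ, Nat.cast_mul] at hm
    have hm1 : ((m + 1 : ℕ) : k) ≠ 0 := left_ne_zero_of_mul hm
    have hm2 : (m.factorial : k) ≠ 0 := right_ne_zero_of_mul hm
    have hpd : ∀ i, pderiv i F = 0 := by
      intro i
      apply ih hm2 _ (by simpa using hF.pderiv (i := i))
      have h1 : D i (aeval x F) ∈ I ^ (m + 1) := deriv_mem_pow (D i) I (m + 1) hFI
      rw [chain] at h1
      have h2 : ∑ j, aeval x (pderiv j F) * D i (x j) =
          aeval x (pderiv i F) +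
            ∑ j, aeval x (pderiv j F) * (D i (x j) - (if i = j then 1 else 0)) := by
        simp only [mul_sub, Finset.sum_sub_distrib, mul_ite, mul_one, mul_zero,
          Finset.sum_ite_eq, Finset.mem_univ, if_true]
        ring
      rw [h2] at h1
      have h3 : ∑ j, aeval x (pderiv j F) * (D i (x j) - (if i = j then 1 else 0)) ∈
          I ^ (m + 1) := by
        apply Ideal.sum_mem
        intro j _
        rw [pow_succ]
        apply Ideal.mul_mem_mul _ (hD i j)
        exact aeval_mem_pow I x hx (by simpa using hF.pderiv (i := j))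
      exact (Ideal.add_mem_iff_left _ h3).mp h1
    have hE := hF.sum_X_mul_pderiv
    simp only [hpd, mul_zero, Finset.sum_const_zero] at hE
    have h4 : ((m + 1 : ℕ) : k) • F = 0 := by
      rw [Nat.cast_smul_eq_nsmul]
      exact hE.symm
    exact (smul_eq_zero.mp h4).resolve_left hm1

omit [DecidableEq σ] in
/-- `I^n ⊆ H_n(x) + I^(n+1)`. -/
theorem exists_homog (I : Ideal A) (hsplit : ∀ a : A, ∃ c : k, a - algebraMap k A c ∈ I)
    (x : σ → A) (hx : ∀ i, x i ∈ I)
    (hspan : ∀ b ∈ I, ∃ c : σ → k, b - ∑ j, c j • x j ∈ I ^ 2) :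
    ∀ (n : ℕ) (a : A), a ∈ I ^ n →
      ∃ F : MvPolynomial σ k, F.IsHomogeneous n ∧ a - aeval x F ∈ I ^ (n + 1) := by
  intro n
  induction n with
  | zero =>
    intro a _
    obtain ⟨c, hc⟩ := hsplit a
    refine ⟨C c, isHomogeneous_C _ _, ?_⟩
    rw [aeval_C, zero_add, pow_one]
    exact hc
  | succ n ih =>
    intro a ha
    rw [pow_succ] at ha
    refine Submodule.mul_induction_on ha ?_ ?_
    · intro b hb c hc
      obtain ⟨F, hF, hbF⟩ := ih b hb
      obtain ⟨e, he⟩ := hspan c hc
      refine ⟨F * ∑ j, C (e j) * X j, ?_, ?_⟩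
      · apply hF.mul
        apply IsHomogeneous.sum
        intro j _
        exact isHomogeneous_C_mul_X _ _
      · have h1 : aeval x (F * ∑ j, C (e j) * X j) = aeval x F * ∑ j, e j • x j := by
          rw [map_mul, map_sum]
          congr 1
          apply Finset.sum_congr rfl
          intro j _
          rw [map_mul, aeval_C, aeval_X, Algebra.smul_def]
        rw [h1]
        have h2 : b * c - aeval x F * ∑ j, e j • x j =
            aeval x F * (c - ∑ j, e j • x j) + (b - aeval x F) * c := by ring
        rw [h2]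
        refine Ideal.add_mem _ ?_ ?_
        · have h3 : aeval x F * (c - ∑ j, e j • x j) ∈ I ^ n * I ^ 2 :=
            Ideal.mul_mem_mul (aeval_mem_pow I x hx hF) he
          rwa [← pow_add] at h3
        · have h3 : (b - aeval x F) * c ∈ I ^ (n + 1) * I := Ideal.mul_mem_mul hbF hc
          rwa [← pow_succ] at h3
    · rintro y z ⟨F, hF, hyF⟩ ⟨G, hG, hzG⟩
      refine ⟨F + G, hF.add hG, ?_⟩
      rw [map_add]
      have : y + z - (aeval x F + aeval x G) = (y - aeval x F) + (z - aeval x G) := by ring
      rw [this]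
      exact Ideal.add_mem _ hyF hzG

end Abstract

section Nil

variable {A : Type v} [CommRing A]

lemma pow_sub_pow_mem (I : Ideal A) (n e : ℕ) (he : 0 < e) (w y : A) (hw : w ∈ I ^ n)
    (hy : y ∈ I ^ n) (hwy : w - y ∈ I ^ (n + 1)) : w ^ e - y ^ e ∈ I ^ (n * e + 1) := by
  rw [← geom_sum₂_mul w y e]
  have h1 : ∑ i ∈ Finset.range e, w ^ i * y ^ (e - 1 - i) ∈ I ^ (n * (e - 1)) := by
    apply Ideal.sum_mem
    intro i hi
    have hi' : i < e := Finset.mem_range.mp hi
    have h2 : w ^ i * y ^ (e - 1 - i) ∈ I ^ (n * i) * I ^ (n * (e - 1 - i)) := by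
      apply Ideal.mul_mem_mul
      · rw [pow_mul]; exact Ideal.pow_mem_pow hw i
      · rw [pow_mul]; exact Ideal.pow_mem_pow hy _
    rw [← pow_add, ← mul_add] at h2
    have h3 : i + (e - 1 - i) = e - 1 := by omega
    rwa [h3] at h2
  have h4 := Ideal.mul_mem_mul h1 hwy
  rw [← pow_add] at h4
  have h5 : n * (e - 1) + (n + 1) = n * e + 1 := by
    obtain ⟨e', rfl⟩ : ∃ e', e = e' + 1 := ⟨e - 1, by omega⟩
    simp only [Nat.add_sub_cancel]
    ring
  rwa [h5] at h4


end Nil

section Aug

variable {k : Type u} [Field k] {A : Type v} [CommRing A] [Algebra k A] (ev : A →ₐ[k] k)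

/-- the augmentation ideal -/
abbrev augI : Ideal A := RingHom.ker ev

lemma mem_augI (a : A) : a ∈ augI ev ↔ ev a = 0 := RingHom.mem_ker

lemma augI_algebraMap (c : k) (h : algebraMap k A c ∈ augI ev) : c = 0 := by
  rw [mem_augI, AlgHom.commutes] at h
  simpa using h

lemma sub_ev_mem (a : A) : a - algebraMap k A (ev a) ∈ augI ev := by
  rw [mem_augI, map_sub, AlgHom.commutes]
  simp

/-- projection onto the augmentation ideal -/
noncomputable def projI : A →ₗ[k] augI ev where
  toFun a := ⟨a - algebraMap k A (ev a), sub_ev_mem ev a⟩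
  map_add' a b := by
    apply Subtype.ext
    simp only [map_add, Submodule.coe_add]
    ring
  map_smul' c a := by
    apply Subtype.ext
    simp only [map_smul, RingHom.id_apply, Submodule.coe_smul_of_tower, smul_sub, smul_eq_mul,
      map_mul]
    rw [Algebra.smul_def, Algebra.smul_def]

lemma projI_coe (a : A) : ((projI ev a : augI ev) : A) = a - algebraMap k A (ev a) := rfl

lemma projI_of_mem (a : A) (ha : a ∈ augI ev) : projI ev a = ⟨a, ha⟩ := by
  apply Subtype.ext
  rw [projI_coe, (mem_augI ev a).mp ha, map_zero, sub_zero]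

/-- the point derivation attached to a functional on the cotangent space -/
noncomputable def xi (ℓ : (augI ev).Cotangent →ₗ[k] k) : A →ₗ[k] k :=
  ℓ ∘ₗ ((augI ev).toCotangent.restrictScalars k) ∘ₗ projI ev

lemma xi_of_mem (ℓ : (augI ev).Cotangent →ₗ[k] k) (a : A) (ha : a ∈ augI ev) :
    xi ev ℓ a = ℓ ((augI ev).toCotangent ⟨a, ha⟩) := by
  simp only [xi, LinearMap.comp_apply, projI_of_mem ev a ha]
  rfl

lemma xi_mul (ℓ : (augI ev).Cotangent →ₗ[k] k) (a b : A) :
    xi ev ℓ (a * b) = ev a * xi ev ℓ b + xi ev ℓ a * ev b := by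
  have h1 : (augI ev).toCotangent (projI ev (a * b)) =
      (augI ev).toCotangent (ev a • projI ev b + ev b • projI ev a) := by
    rw [Ideal.toCotangent_eq]
    have h2 : ((projI ev (a * b) : augI ev) : A) -
        ((ev a • projI ev b + ev b • projI ev a : augI ev) : A) =
        ((projI ev a : augI ev) : A) * ((projI ev b : augI ev) : A) := by
      simp only [Submodule.coe_add, Submodule.coe_smul_of_tower, projI_coe, Algebra.smul_def,
        map_mul]
      ring
    rw [h2, pow_two]
    exact Ideal.mul_mem_mul (projI ev a).2 (projI ev b).2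
  have h3 : xi ev ℓ (a * b) = ℓ ((augI ev).toCotangent (projI ev (a * b))) := rfl
  rw [h3, h1]
  have h4 : (augI ev).toCotangent (ev a • projI ev b + ev b • projI ev a) =
      ev a • (augI ev).toCotangent (projI ev b) + ev b • (augI ev).toCotangent (projI ev a) := by
    rw [map_add]
    exact congrArg₂ (· + ·) (((augI ev).toCotangent.restrictScalars k).map_smul _ _)
      (((augI ev).toCotangent.restrictScalars k).map_smul _ _)
  rw [h4, map_add, map_smul, map_smul, smul_eq_mul, smul_eq_mul]
  have h5 : xi ev ℓ a = ℓ ((augI ev).toCotangent (projI ev a)) := rfl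
  have h6 : xi ev ℓ b = ℓ ((augI ev).toCotangent (projI ev b)) := rfl
  rw [h5, h6]
  ring

/-- the main packaging: coordinates and derivations at the augmentation -/
theorem exists_data [Module.Finite k (augI ev).Cotangent]
    (hB : ∀ δ : A →ₗ[k] k, (∀ a b, δ (a * b) = ev a * δ b + δ a * ev b) →
      ∃ D : Derivation k A A, ∀ a, ev (D a) = δ a) :
    ∃ (x : Fin (Module.finrank k (augI ev).Cotangent) → A)
      (D : Fin (Module.finrank k (augI ev).Cotangent) → Derivation k A A),
      (∀ i, x i ∈ augI ev) ∧
      (∀ i j, D i (x j) - (if i = j then 1 else 0) ∈ augI ev) ∧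
      (∀ b ∈ augI ev, ∃ c : Fin (Module.finrank k (augI ev).Cotangent) → k,
        b - ∑ j, c j • x j ∈ (augI ev) ^ 2) := by
  classical
  let bs := Module.finBasis k (augI ev).Cotangent
  have hsurj := (augI ev).toCotangent_surjective
  let y : Fin (Module.finrank k (augI ev).Cotangent) → augI ev := fun i => (hsurj (bs i)).choose
  have hy : ∀ i, (augI ev).toCotangent (y i) = bs i := fun i => (hsurj (bs i)).choose_spec
  choose D hD using fun i => hB (xi ev (bs.coord i)) (xi_mul ev _)
  refine ⟨fun i => (y i : A), D, fun i => (y i).2, ?_, ?_⟩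
  · intro i j
    rw [mem_augI, map_sub, hD, xi_of_mem ev _ _ (y j).2]
    have h1 : (⟨(y j : A), (y j).2⟩ : augI ev) = y j := rfl
    rw [h1, hy, Module.Basis.coord_apply, Module.Basis.repr_self, Finsupp.single_apply]
    by_cases h : i = j
    · subst h; simp
    · rw [if_neg (Ne.symm h), if_neg h]; simp
  · intro b hb
    refine ⟨fun j => bs.repr ((augI ev).toCotangent ⟨b, hb⟩) j, ?_⟩
    have h1 : (augI ev).toCotangent ⟨b, hb⟩ = (augI ev).toCotangent
        (∑ j, bs.repr ((augI ev).toCotangent ⟨b, hb⟩) j • y j) := by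
      rw [map_sum]
      conv_lhs => rw [← bs.sum_repr ((augI ev).toCotangent ⟨b, hb⟩)]
      apply Finset.sum_congr rfl
      intro j _
      rw [← hy j]
      exact (((augI ev).toCotangent.restrictScalars k).map_smul _ _).symm
    rw [Ideal.toCotangent_eq] at h1
    simpa only [Submodule.coe_sum, Submodule.coe_smul_of_tower] using h1

/-- nilpotent elements lie in all powers of the augmentation ideal -/
theorem nilpotent_mem_pow [CharZero k] [Module.Finite k (augI ev).Cotangent]
    (hB : ∀ δ : A →ₗ[k] k, (∀ a b, δ (a * b) = ev a * δ b + δ a * ev b) →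
      ∃ D : Derivation k A A, ∀ a, ev (D a) = δ a)
    (y : A) (hy : IsNilpotent y) : ∀ n, y ∈ (augI ev) ^ n := by
  classical
  obtain ⟨x, D, hx, hD, hspan⟩ := exists_data ev hB
  obtain ⟨e₀, he₀⟩ := hy
  have he : y ^ (e₀ + 1) = 0 := by rw [pow_succ, he₀, zero_mul]
  intro n
  induction n with
  | zero => simp
  | succ n ih =>
    obtain ⟨F, hF, hyF⟩ := exists_homog (augI ev) (fun a => ⟨_, sub_ev_mem ev a⟩) x hx hspan n y ih
    have hw : aeval x F ∈ (augI ev) ^ n := aeval_mem_pow _ x hx hF
    have hwy : aeval x F - y ∈ (augI ev) ^ (n + 1) := by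
      have := Ideal.neg_mem_iff _ |>.mpr hyF
      rwa [neg_sub] at this
    have h1 := pow_sub_pow_mem (augI ev) n (e₀ + 1) (Nat.succ_pos _) _ _ hw ih hwy
    rw [he, sub_zero, ← map_pow] at h1
    have h2 : F ^ (e₀ + 1) = 0 :=
      homog_eq_zero (augI ev) (augI_algebraMap ev) x hx D hD (n * (e₀ + 1))
        (Nat.cast_ne_zero.mpr (Nat.factorial_ne_zero _)) _ (hF.pow _) h1
    have h3 : F = 0 := pow_eq_zero_iff (Nat.succ_ne_zero _) |>.mp h2
    rw [h3, map_zero, sub_zero] at hyF
    exact hyF

end Aug

end Groth.Agent.Lib.Helper6.Cartier
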