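import Mathlib

/-!
# Dual numbers over a local ring (helper6)
-/

universe u

namespace Groth.Agent.Lib.Helper6.Cartier

open TrivSqZeroExt

section Dual

variable {A B C : Type u} [CommRing A] [CommRing B] [CommRing C]

/-- `(a, b) ↦ (f a, f b)` -/
def mapε (f : A →+* B) : TrivSqZeroExt A A →+* TrivSqZeroExt B B where
  toFun x := inl (f x.fst) + inr (f x.snd)
  map_one' := by ext <;> simp
  map_mul' x y := by ext <;> simp [mul_comm]
  map_zero' := by ext <;> simp
  map_add' x y := by ext <;> simp

@[simp] lemma fst_mapε (f : A →+* B) (x : TrivSqZeroExt A A) : (mapε f x).fst = f x.fst := by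
  simp [mapε]

@[simp] lemma snd_mapε (f : A →+* B) (x : TrivSqZeroExt A A) : (mapε f x).snd = f x.snd := by
  simp [mapε]

lemma mapε_comp (f : A →+* B) (g : B →+* C) : (mapε g).comp (mapε f) = mapε (g.comp f) := by
  refine RingHom.ext fun x => ?_
  ext <;> simp

lemma mapε_id : mapε (RingHom.id A) = RingHom.id _ := by
  refine RingHom.ext fun x => ?_
  ext <;> simp

lemma mapε_inl (f : A →+* B) (a : A) : mapε f (inl a) = inl (f a) := by
  ext <;> simp

/-- first projection as a ring hom -/
def fstR : TrivSqZeroExt A A →+* A := (fstHom A A A).toRingHom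

@[simp] lemma fstR_apply (x : TrivSqZeroExt A A) : fstR x = x.fst := rfl

/-- inclusion as a ring hom -/
def inlR : A →+* TrivSqZeroExt A A := inlHom A A

@[simp] lemma inlR_apply (a : A) : (inlR a : TrivSqZeroExt A A) = inl a := rfl

lemma fstR_comp_inlR : (fstR (A := A)).comp inlR = RingHom.id A := by
  refine RingHom.ext fun a => ?_
  simp

lemma fstR_comp_mapε (f : A →+* B) : (fstR (A := B)).comp (mapε f) = f.comp fstR := by
  refine RingHom.ext fun x => ?_
  simp

lemma mapε_comp_inlR (f : A →+* B) : (mapε f).comp inlR = (inlR (A := B)).comp f := by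
  refine RingHom.ext fun x => ?_
  ext <;> simp

instance isLocalRing_dual [IsLocalRing A] : IsLocalRing (TrivSqZeroExt A A) := by
  have : Nontrivial (TrivSqZeroExt A A) :=
    ⟨⟨0, 1, fun h => zero_ne_one (α := A) (congrArg TrivSqZeroExt.fst h)⟩⟩
  refine IsLocalRing.of_nonunits_add fun a b ha hb => ?_
  rw [mem_nonunits_iff, TrivSqZeroExt.isUnit_iff_isUnit_fst] at *
  rw [TrivSqZeroExt.fst_add]
  exact IsLocalRing.nonunits_add ha hb

instance isLocalHom_fstR : IsLocalHom (fstR (A := A)) :=
  ⟨fun x hx => TrivSqZeroExt.isUnit_iff_isUnit_fst.mpr hx⟩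

/-- a ring hom to the dual numbers whose first component is the identity gives a derivation -/
def derivOfSection {k : Type u} [CommRing k] [Algebra k A] (φ : A →+* TrivSqZeroExt A A)
    (h1 : ∀ a, (φ a).fst = a) (h2 : ∀ c : k, φ (algebraMap k A c) = inl (algebraMap k A c)) :
    Derivation k A A where
  toFun a := (φ a).snd
  map_add' a b := by simp
  map_smul' c a := by
    simp only [RingHom.id_apply, Algebra.smul_def, map_mul, h2, TrivSqZeroExt.snd_mul,
      TrivSqZeroExt.fst_inl, TrivSqZeroExt.snd_inl, smul_eq_mul, h1]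
    simp
  map_one_eq_zero' := by simp
  leibniz' a b := by
    show (φ (a * b)).snd = a • (φ b).snd + b • (φ a).snd
    rw [map_mul, TrivSqZeroExt.snd_mul, h1, h1]
    simp [mul_comm]

@[simp] lemma derivOfSection_apply {k : Type u} [CommRing k] [Algebra k A]
    (φ : A →+* TrivSqZeroExt A A)
    (h1 : ∀ a, (φ a).fst = a) (h2 : ∀ c : k, φ (algebraMap k A c) = inl (algebraMap k A c))
    (a : A) : derivOfSection φ h1 h2 a = (φ a).snd := rfl

/-- A point derivation `δ` at an augmentation `ev` gives a ring hom to the dual numbers. -/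
def pointHom (ev : A →+* B) (δ : A →+ B)
    (hδ : ∀ a b, δ (a * b) = ev a * δ b + δ a * ev b) : A →+* TrivSqZeroExt B B where
  toFun a := inl (ev a) + inr (δ a)
  map_one' := by
    have h : δ 1 = 0 := by
      have := hδ 1 1
      simp only [mul_one, map_one, one_mul] at this
      have h2 : δ 1 + δ 1 = δ 1 + 0 := by rw [add_zero]; exact this.symm
      exact add_left_cancel h2
    ext <;> simp [h]
  map_mul' a b := by ext <;> simp [hδ, mul_comm]
  map_zero' := by ext <;> simp
  map_add' a b := by ext <;> simp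

@[simp] lemma fst_pointHom (ev : A →+* B) (δ : A →+ B)
    (hδ : ∀ a b, δ (a * b) = ev a * δ b + δ a * ev b) (a : A) :
    (pointHom ev δ hδ a).fst = ev a := by simp [pointHom]

@[simp] lemma snd_pointHom (ev : A →+* B) (δ : A →+ B)
    (hδ : ∀ a b, δ (a * b) = ev a * δ b + δ a * ev b) (a : A) :
    (pointHom ev δ hδ a).snd = δ a := by simp [pointHom]

end Dual

end Groth.Agent.Lib.Helper6.Cartier
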