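import Mathlib
import Groth.Agent.Lib.Helper6.Cartier.Dual

/-!
# Invariant derivations on the local ring at the unit of a group scheme over a field (helper6)
-/

set_option backward.isDefEq.respectTransparency.types false

universe u

open CategoryTheory AlgebraicGeometry MonoidalCategory CartesianMonoidalCategory MonObj IsLocalRing

namespace Groth.Agent.Lib.Helper6.Cartier

/-- A morphism from the spectrum of a local ring factors through the local ring at the image of
the closed point. -/
lemma lift_of_closedPoint {X : Scheme.{u}} {R : CommRingCat.{u}} [IsLocalRing R]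
    (t : Spec R ⟶ X) (x : X) (h : t (closedPoint R) = x) :
    ∃ φ : X.presheaf.stalk x ⟶ R, Spec.map φ ≫ X.fromSpecStalk x = t := by
  subst h
  exact ⟨Scheme.stalkClosedPointTo t, Scheme.Spec_stalkClosedPointTo_fromSpecStalk t⟩

section Geom

variable {L : Type u} [Field L] (G : Over (Spec (CommRingCat.of L))) [MonObj G]

/-- the unit section as a scheme morphism -/
noncomputable def unitSec : Spec (CommRingCat.of L) ⟶ G.left := η[G].left

lemma unitSec_hom : unitSec G ≫ G.hom = 𝟙 _ := Over.w η[G]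

/-- the unit point -/
noncomputable def e : G.left := unitSec G (closedPoint L)

/-- the local ring at the unit point -/
noncomputable abbrev A : CommRingCat.{u} := G.left.presheaf.stalk (e G)

/-- the canonical morphism from the spectrum of the local ring -/
noncomputable def j : Spec (A G) ⟶ G.left := G.left.fromSpecStalk (e G)

instance : Mono (j G) := by unfold j; infer_instance

/-- the structure map `L → A` -/
noncomputable def aL : CommRingCat.of L ⟶ A G := Spec.preimage (j G ≫ G.hom)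

lemma map_aL : Spec.map (aL G) = j G ≫ G.hom := Spec.map_preimage _

/-- evaluation at the unit point -/
noncomputable def ev : A G ⟶ CommRingCat.of L := Scheme.stalkClosedPointTo (unitSec G)

lemma map_ev_j : Spec.map (ev G) ≫ j G = unitSec G :=
  Scheme.Spec_stalkClosedPointTo_fromSpecStalk _

lemma aL_ev : aL G ≫ ev G = 𝟙 _ := by
  apply Spec.map_injective
  rw [Spec.map_comp, map_aL, ← Category.assoc, map_ev_j, unitSec_hom, Spec.map_id]

instance : IsLocalHom (ev G).hom := Scheme.isLocalHom_stalkClosedPointTo' (unitSec G)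

/-- the point of `G` attached to a ring hom out of the local ring -/
noncomputable def Pt {R : CommRingCat.{u}} (s : CommRingCat.of L ⟶ R) (φ : A G ⟶ R)
    (h : aL G ≫ φ = s) : Over.mk (Spec.map s) ⟶ G :=
  Over.homMk (Spec.map φ ≫ j G) (by
    subst h
    simp only [Category.assoc, Over.mk_hom, Spec.map_comp, map_aL])

@[simp] lemma Pt_left {R : CommRingCat.{u}} (s : CommRingCat.of L ⟶ R) (φ : A G ⟶ R)
    (h : aL G ≫ φ = s) : (Pt G s φ h).left = Spec.map φ ≫ j G := rfl

lemma Pt_inj {R : CommRingCat.{u}} (s : CommRingCat.of L ⟶ R) (φ φ' : A G ⟶ R)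
    (h : aL G ≫ φ = s) (h' : aL G ≫ φ' = s) (hh : Pt G s φ h = Pt G s φ' h') : φ = φ' := by
  have h1 := congrArg CommaMorphism.left hh
  simp only [Pt_left] at h1
  exact Spec.map_injective ((cancel_mono (j G)).mp h1)

lemma Pt_congr {R : CommRingCat.{u}} (s : CommRingCat.of L ⟶ R) (φ φ' : A G ⟶ R)
    (h : aL G ≫ φ = s) (hφ : φ = φ') : Pt G s φ h = Pt G s φ' (hφ ▸ h) := by
  subst hφ; rfl

/-- base change morphisms between spectra over `L` -/
noncomputable def cmap {R R' : CommRingCat.{u}} (s : CommRingCat.of L ⟶ R)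
    (s' : CommRingCat.of L ⟶ R') (ψ : R ⟶ R') (h : s ≫ ψ = s') :
    Over.mk (Spec.map s') ⟶ Over.mk (Spec.map s) :=
  Over.homMk (Spec.map ψ) (by subst h; simp)

lemma cmap_Pt {R R' : CommRingCat.{u}} (s : CommRingCat.of L ⟶ R)
    (s' : CommRingCat.of L ⟶ R') (ψ : R ⟶ R') (h : s ≫ ψ = s') (φ : A G ⟶ R)
    (hφ : aL G ≫ φ = s) :
    cmap s s' ψ h ≫ Pt G s φ hφ = Pt G s' (φ ≫ ψ) (by rw [← Category.assoc, hφ, h]) := by
  ext
  simp [cmap, Pt]

lemma Pt_ev {R : CommRingCat.{u}} (s : CommRingCat.of L ⟶ R) :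
    Pt G s (ev G ≫ s) (by rw [← Category.assoc, aL_ev, Category.id_comp]) = 1 := by
  ext
  rw [Hom.one_def]
  simp only [Pt_left, Over.comp_left, Over.toUnit_left, Over.mk_hom, Spec.map_comp,
    Category.assoc]
  rw [map_ev_j]
  rfl

end Geom


section DualCat

/-- dual numbers over a commutative ring, bundled -/
noncomputable abbrev dual (B : CommRingCat.{u}) : CommRingCat.{u} :=
  CommRingCat.of (TrivSqZeroExt B B)

noncomputable def inlC (B : CommRingCat.{u}) : B ⟶ dual B := CommRingCat.ofHom inlR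
noncomputable def fstC (B : CommRingCat.{u}) : dual B ⟶ B := CommRingCat.ofHom fstR
noncomputable def mapεC {B C : CommRingCat.{u}} (f : B ⟶ C) : dual B ⟶ dual C :=
  CommRingCat.ofHom (mapε f.hom)

@[reassoc (attr := simp)]
lemma inlC_fstC (B : CommRingCat.{u}) : inlC B ≫ fstC B = 𝟙 B :=
  CommRingCat.hom_ext fstR_comp_inlR

@[reassoc]
lemma mapεC_fstC {B C : CommRingCat.{u}} (f : B ⟶ C) : mapεC f ≫ fstC C = fstC B ≫ f :=
  CommRingCat.hom_ext (fstR_comp_mapε f.hom)

@[reassoc]
lemma inlC_mapεC {B C : CommRingCat.{u}} (f : B ⟶ C) : inlC B ≫ mapεC f = f ≫ inlC C :=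
  CommRingCat.hom_ext (mapε_comp_inlR f.hom)

@[reassoc]
lemma mapεC_comp {B C D : CommRingCat.{u}} (f : B ⟶ C) (g : C ⟶ D) :
    mapεC f ≫ mapεC g = mapεC (f ≫ g) :=
  CommRingCat.hom_ext (mapε_comp f.hom g.hom)

lemma mapεC_id (B : CommRingCat.{u}) : mapεC (𝟙 B) = 𝟙 _ :=
  CommRingCat.hom_ext mapε_id

instance (B : CommRingCat.{u}) [IsLocalRing B] : IsLocalRing (dual B) :=
  isLocalRing_dual (A := B)

instance (B : CommRingCat.{u}) : IsLocalHom (fstC B).hom := isLocalHom_fstR (A := B)

end DualCat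

section Main

variable {L : Type u} [Field L] (G : Over (Spec (CommRingCat.of L))) [MonObj G]

set_option maxHeartbeats 1000000 in
/-- **Invariant vector fields.** Every tangent vector `v` at the unit point extends to a ring
homomorphism `φ : A → A[ε]` lifting the identity, i.e. to a derivation of the local ring. -/
theorem bridge (v : A G ⟶ dual (CommRingCat.of L)) (hv1 : aL G ≫ v = inlC (CommRingCat.of L))
    (hv2 : v ≫ fstC (CommRingCat.of L) = ev G) :
    ∃ φ : A G ⟶ dual (A G), φ ≫ fstC (A G) = 𝟙 _ ∧ aL G ≫ φ = aL G ≫ inlC (A G) ∧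
      φ ≫ mapεC (ev G) = v := by
  -- the structure map of `A[ε]`
  let sR : CommRingCat.of L ⟶ dual (A G) := aL G ≫ inlC (A G)
  have h2 : aL G ≫ (v ≫ mapεC (aL G)) = sR := by
    rw [← Category.assoc, hv1, inlC_mapεC]
  let g₁ : Over.mk (Spec.map sR) ⟶ G := Pt G sR (inlC (A G)) rfl
  let g₂ : Over.mk (Spec.map sR) ⟶ G := Pt G sR (v ≫ mapεC (aL G)) h2
  let g : Over.mk (Spec.map sR) ⟶ G := g₁ * g₂
  -- (i) restriction along `fst`
  have hfst : sR ≫ fstC (A G) = aL G := by simp [sR]
  have hi : cmap sR (aL G) (fstC (A G)) hfst ≫ g = Pt G (aL G) (𝟙 _) (Category.comp_id _) := by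
    rw [comp_mul, cmap_Pt, cmap_Pt]
    rw [Pt_congr G (aL G) (inlC (A G) ≫ fstC (A G)) (𝟙 _) _ (inlC_fstC _)]
    have e2 : (v ≫ mapεC (aL G)) ≫ fstC (A G) = ev G ≫ aL G := by
      rw [Category.assoc, mapεC_fstC, ← Category.assoc, hv2]
    rw [Pt_congr G (aL G) ((v ≫ mapεC (aL G)) ≫ fstC (A G)) (ev G ≫ aL G) _ e2, Pt_ev, _root_.mul_one]
  -- (ii) restriction along `mapε ev`
  have hev : sR ≫ mapεC (ev G) = inlC (CommRingCat.of L) := by
    simp only [sR, Category.assoc, inlC_mapεC]
    rw [← Category.assoc, aL_ev, Category.id_comp]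
  have hii : cmap sR (inlC (CommRingCat.of L)) (mapεC (ev G)) hev ≫ g =
      Pt G (inlC (CommRingCat.of L)) v hv1 := by
    rw [comp_mul, cmap_Pt, cmap_Pt]
    rw [Pt_congr G _ (inlC (A G) ≫ mapεC (ev G)) (ev G ≫ inlC _) _ (inlC_mapεC _), Pt_ev, _root_.one_mul]
    have e2 : (v ≫ mapεC (aL G)) ≫ mapεC (ev G) = v := by
      rw [Category.assoc, mapεC_comp, aL_ev, mapεC_id, Category.comp_id]
    rw [Pt_congr G _ ((v ≫ mapεC (aL G)) ≫ mapεC (ev G)) v _ e2]
  -- (iii) the closed point goes to the unit point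
  have hcl : g.left (closedPoint (dual (A G))) = e G := by
    have h3 : Spec.map (fstC (A G) ≫ ev G) (closedPoint L) = closedPoint (dual (A G)) := by
      have : IsLocalHom (fstC (A G) ≫ ev G).hom := by
        rw [CommRingCat.hom_comp]; infer_instance
      exact Spec_closedPoint
    have h4 : Spec.map (fstC (A G) ≫ ev G) ≫ g.left = unitSec G := by
      have h5 := congrArg CommaMorphism.left hi
      simp only [Over.comp_left, cmap, Over.homMk_left, Pt_left, Spec.map_id,
        Category.id_comp] at h5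
      rw [Spec.map_comp, Category.assoc, h5, map_ev_j]
    rw [← h3, ← Scheme.Hom.comp_apply, h4]
    rfl
  obtain ⟨φ, hφ⟩ := lift_of_closedPoint g.left (e G) hcl
  have hover : aL G ≫ φ = sR := by
    apply Spec.map_injective
    have h6 := Over.w g
    simp only [Over.mk_hom] at h6
    rw [Spec.map_comp, map_aL, ← Category.assoc]
    exact (congrArg (· ≫ G.hom) hφ).trans h6
  have hg : g = Pt G sR φ hover := by
    ext
    exact hφ.symm
  refine ⟨φ, ?_, hover, ?_⟩
  · rw [hg, cmap_Pt] at hi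
    exact Pt_inj G _ _ _ _ _ hi
  · rw [hg, cmap_Pt] at hii
    exact Pt_inj G _ _ _ _ _ hii

end Main

end Groth.Agent.Lib.Helper6.Cartier
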