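import Mathlib
import Groth.Agent.Lib.Helper6.Cartier.Alg
import Groth.Agent.Lib.Helper6.Cartier.Bridge

/-!
# The local ring at the unit of a group scheme locally of finite type over a field of
characteristic zero is reduced (helper6)
-/

set_option backward.isDefEq.respectTransparency.types false

universe u v

open CategoryTheory AlgebraicGeometry MonoidalCategory CartesianMonoidalCategory MonObj IsLocalRing

namespace Groth.Agent.Lib.Helper6.Cartier

section Fin

variable {k : Type u} [Field k] {A : Type v} [CommRing A] [Algebra k A] (ev : A →ₐ[k] k)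

lemma smul_cotangent (a : A) (m : (augI ev).Cotangent) : a • m = ev a • m := by
  have h1 : (a - algebraMap k A (ev a)) • m = 0 :=
    Ideal.Cotangent.smul_eq_zero_of_mem (sub_ev_mem ev a) m
  rw [sub_smul, sub_eq_zero, algebraMap_smul] at h1
  exact h1

lemma finite_cotangent [IsNoetherianRing A] : Module.Finite k (augI ev).Cotangent := by
  have hNI : IsNoetherian A (augI ev) := isNoetherian_submodule' _
  have hfin : Module.Finite A (augI ev).Cotangent :=
    Module.Finite.of_surjective (augI ev).toCotangent (augI ev).toCotangent_surjective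
  obtain ⟨S, hS⟩ := hfin.fg_top
  refine ⟨⟨S, ?_⟩⟩
  rw [eq_top_iff]
  intro m _
  have hm : m ∈ Submodule.span A (S : Set (augI ev).Cotangent) := by rw [hS]; trivial
  induction hm using Submodule.span_induction with
  | mem x hx => exact Submodule.subset_span hx
  | zero => exact Submodule.zero_mem _
  | add x y _ _ hx hy => exact Submodule.add_mem _ (hx trivial) (hy trivial)
  | smul a x _ hx =>
    rw [smul_cotangent]
    exact Submodule.smul_mem _ _ (hx trivial)

theorem isReduced_of_bridge [CharZero k] [IsNoetherianRing A] [IsLocalRing A]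
    (hB : ∀ δ : A →ₗ[k] k, (∀ a b, δ (a * b) = ev a * δ b + δ a * ev b) →
      ∃ D : Derivation k A A, ∀ a, ev (D a) = δ a) : IsReduced A := by
  have := finite_cotangent ev
  refine ⟨fun y hy => ?_⟩
  have h1 := nilpotent_mem_pow ev hB y hy
  have hne : augI ev ≠ ⊤ := by
    intro h
    have h2 : (1 : A) ∈ augI ev := by rw [h]; trivial
    rw [mem_augI, map_one] at h2
    exact one_ne_zero h2
  have h3 : y ∈ ⨅ i, (augI ev) ^ i := by
    rw [Ideal.mem_iInf]; exact h1
  rw [Ideal.iInf_pow_eq_bot_of_isLocalRing _ hne] at h3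
  exact h3

end Fin

section Geom

variable {L : Type u} [Field L] (G : Over (Spec (CommRingCat.of L))) [MonObj G]

set_option maxHeartbeats 1000000 in
theorem isReduced_stalk_unit [CharZero L] [LocallyOfFiniteType G.hom] :
    _root_.IsReduced (A G) := by
  have hLN : IsLocallyNoetherian G.left := LocallyOfFiniteType.isLocallyNoetherian G.hom
  have hN : IsNoetherianRing (A G) := inferInstance
  let _ : Algebra L (A G) := (aL G).hom.toAlgebra
  have hcomm : ∀ c : L, (ev G).hom ((aL G).hom c) = c := fun c =>
    congrArg (fun f : CommRingCat.of L ⟶ CommRingCat.of L => f.hom c) (aL_ev G)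
  let evA : A G →ₐ[L] L := { (ev G).hom with commutes' := hcomm }
  refine isReduced_of_bridge evA ?_
  intro δ hδ
  have hδ1 : δ 1 = 0 := by
    have h0 := hδ 1 1
    have e1 : evA 1 = 1 := map_one evA
    rw [_root_.mul_one, e1, _root_.one_mul, _root_.mul_one] at h0
    have h2 : δ 1 + δ 1 = δ 1 + 0 := by rw [add_zero]; exact h0.symm
    exact add_left_cancel h2
  let v : A G ⟶ dual (CommRingCat.of L) :=
    CommRingCat.ofHom (pointHom (ev G).hom δ.toAddMonoidHom hδ)
  have hv1 : aL G ≫ v = inlC (CommRingCat.of L) := by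
    refine CommRingCat.hom_ext (RingHom.ext fun c => ?_)
    show pointHom (ev G).hom δ.toAddMonoidHom hδ ((aL G).hom c) = TrivSqZeroExt.inl c
    have h3 : δ ((aL G).hom c) = 0 := by
      have : (aL G).hom c = c • (1 : A G) := by
        rw [Algebra.smul_def, _root_.mul_one]; rfl
      rw [this, map_smul, hδ1, smul_zero]
    ext
    · simp [hcomm]
    · simpa using h3
  have hv2 : v ≫ fstC (CommRingCat.of L) = ev G := by
    refine CommRingCat.hom_ext (RingHom.ext fun a => ?_)
    show (pointHom (ev G).hom δ.toAddMonoidHom hδ a).fst = (ev G).hom a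
    simp
  obtain ⟨φ, h1, h2, h3⟩ := bridge G v hv1 hv2
  have k1 : ∀ a, (φ.hom a).fst = a := fun a =>
    congrArg (fun f : A G ⟶ A G => f.hom a) h1
  have k2 : ∀ c : L, φ.hom (algebraMap L (A G) c) = TrivSqZeroExt.inl (algebraMap L (A G) c) :=
    fun c => congrArg (fun f : CommRingCat.of L ⟶ dual (A G) => f.hom c) h2
  refine ⟨derivOfSection φ.hom k1 k2, fun a => ?_⟩
  have k3 : mapε (ev G).hom (φ.hom a) = pointHom (ev G).hom δ.toAddMonoidHom hδ a :=
    congrArg (fun f : A G ⟶ dual (CommRingCat.of L) => f.hom a) h3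
  have k4 := congrArg TrivSqZeroExt.snd k3
  rw [snd_mapε, snd_pointHom] at k4
  exact k4

end Geom

end Groth.Agent.Lib.Helper6.Cartier
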