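import Mathlib
import Groth.Agent.Lib.Helper6.Cartier.Local

/-!
# Cartier's theorem: group schemes locally of finite type over a field of characteristic zero
are smooth (helper6)
-/

set_option backward.isDefEq.respectTransparency.types false

universe u

open CategoryTheory AlgebraicGeometry MonoidalCategory CartesianMonoidalCategory MonObj IsLocalRing
  Limits

namespace Groth.Agent.Lib.Helper6.Cartier

/-- A localization at a smaller prime of a ring whose localization at a bigger prime is reduced
is reduced. -/
lemma isReduced_localization_of_le {B : Type*} [CommRing B] {p q : Ideal B} [p.IsPrime]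
    [q.IsPrime] (hpq : p ≤ q) (Sp Sq : Type*) [CommRing Sp] [CommRing Sq] [Algebra B Sp]
    [Algebra B Sq] [IsLocalization.AtPrime Sp p] [IsLocalization.AtPrime Sq q]
    [_root_.IsReduced Sq] : _root_.IsReduced Sp := by
  refine ⟨fun t ht => ?_⟩
  obtain ⟨b, s, rfl⟩ := IsLocalization.exists_mk'_eq p.primeCompl t
  obtain ⟨n, hn⟩ := ht
  have h1 : algebraMap B Sp (b ^ n) = 0 := by
    have h : IsLocalization.mk' Sp b s ^ n * algebraMap B Sp ((s : B) ^ n) =
        algebraMap B Sp (b ^ n) := by
      rw [map_pow, map_pow, ← mul_pow, IsLocalization.mk'_spec]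
    rw [← h, hn, zero_mul]
  obtain ⟨u, hu⟩ := (IsLocalization.map_eq_zero_iff p.primeCompl Sp _).mp h1
  have h2 : IsNilpotent (algebraMap B Sq ((u : B) * b)) := by
    refine ⟨n + 1, ?_⟩
    rw [← map_pow]
    have : ((u : B) * b) ^ (n + 1) = (u : B) ^ n * b * ((u : B) * b ^ n) := by ring
    rw [this, hu, mul_zero, map_zero]
  have h3 := h2.eq_zero
  obtain ⟨w, hw⟩ := (IsLocalization.map_eq_zero_iff q.primeCompl Sq _).mp h3
  have hwp : (w : B) ∈ p.primeCompl := fun h => w.2 (hpq h)
  rw [IsLocalization.mk'_eq_zero_iff]
  refine ⟨⟨w, hwp⟩ * u, ?_⟩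
  show ((w : B) * (u : B)) * b = 0
  rw [_root_.mul_assoc]
  exact hw

section AlgClosed

variable {K : Type u} [Field K] {X : Scheme.{u}} (f : X ⟶ Spec (CommRingCat.of K))
  [LocallyOfFiniteType f] [GrpObj (Over.mk f)]

include f in
set_option maxHeartbeats 1000000 in
/-- stalks at closed points -/
theorem isReduced_stalk_of_isClosed [IsAlgClosed K] [CharZero K] (x : X) (hxc : IsClosed {x}) :
    _root_.IsReduced (X.presheaf.stalk x) := by
  have hft : LocallyOfFiniteType (Over.mk f).hom := ‹LocallyOfFiniteType f›
  have h0 : _root_.IsReduced (A (Over.mk f)) := isReduced_stalk_unit (Over.mk f)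
  let x' : 𝟙_ _ ⟶ Over.mk f := Over.homMk _ ((pointEquivClosedPoint f).symm ⟨x, hxc⟩).2
  let α := GrpObj.mulRight (A := Over.mk f) x'
  have hα : η[Over.mk f] ≫ α.hom = x' := by
    dsimp only [α, GrpObj.mulRight]
    simp only [comp_lift_assoc, Category.comp_id]
    have h1 : η[Over.mk f] ≫ toUnit _ = 𝟙 _ := toUnit_unique _ _
    rw [reassoc_of% h1, ← Hom.mul_def, one_eq_one, _root_.one_mul]
  have hα' : α.hom.left (e (Over.mk f)) = x := by
    have := congr(($hα).left (IsLocalRing.closedPoint K))
    simpa [x', pointEquivClosedPoint, e, unitSec] using this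
  have hiso : IsIso α.hom.left := inferInstance
  have := isReduced_of_injective (α.hom.left.stalkMap (e (Over.mk f))).hom
    ((ConcreteCategory.isIso_iff_bijective _).mp inferInstance).injective
  rwa [hα'] at this

include f in
set_option maxHeartbeats 1000000 in
/-- over an algebraically closed field of characteristic zero, a group scheme locally of finite
type is reduced -/
theorem isReduced_of_isAlgClosed [IsAlgClosed K] [CharZero K] : IsReduced X := by
  have := LocallyOfFiniteType.jacobsonSpace f
  apply +allowSynthFailures isReduced_of_isReduced_stalk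
  intro y
  obtain ⟨U, hU, hyU, -⟩ := exists_isAffineOpen_mem_and_subset (x := y) (U := ⊤) trivial
  obtain ⟨x, ⟨hxy, hxU⟩, hxc⟩ := nonempty_inter_closedPoints (Z := closure {y} ∩ (U : Set X))
    ⟨y, subset_closure rfl, hyU⟩ (isClosed_closure.isLocallyClosed.inter U.2.isLocallyClosed)
  have hred := isReduced_stalk_of_isClosed f x hxc
  have hspec : y ⤳ x := specializes_iff_mem_closure.mpr hxy
  -- compare the primes
  have hle : (hU.primeIdealOf ⟨y, hyU⟩).asIdeal ≤ (hU.primeIdealOf ⟨x, hxU⟩).asIdeal := by
    have h1 : (⟨y, hyU⟩ : U) ⤳ ⟨x, hxU⟩ := (subtype_specializes_iff _ _).mpr hspec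
    have h2 := h1.map hU.isoSpec.hom.continuous
    exact (PrimeSpectrum.le_iff_specializes _ _).mpr h2
  let _ := X.presheaf.algebra_section_stalk ⟨y, hyU⟩
  let _ := X.presheaf.algebra_section_stalk ⟨x, hxU⟩
  have l1 := hU.isLocalization_stalk ⟨y, hyU⟩
  have l2 := hU.isLocalization_stalk ⟨x, hxU⟩
  exact isReduced_localization_of_le hle (X.presheaf.stalk y) (X.presheaf.stalk x)

end AlgClosed

section General

variable {K : Type u} [Field K] {X : Scheme.{u}} (f : X ⟶ Spec (CommRingCat.of K))
  [LocallyOfFiniteType f] [GrpObj (Over.mk f)]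

include f in
/-- over a field of characteristic zero, a group scheme locally of finite type is reduced -/
theorem isReduced_of_charZero [CharZero K] : IsReduced X := by
  let Ω : Type u := AlgebraicClosure K
  let g : Spec (.of Ω) ⟶ Spec (.of K) := Spec.map (CommRingCat.ofHom <| algebraMap K Ω)
  let _ : GrpObj (Over.mk (pullback.snd f g)) := Over.grpObjMkPullbackSnd
  have : CharZero Ω := charZero_of_injective_algebraMap (algebraMap K Ω).injective
  have h1 : IsReduced (pullback f g) := isReduced_of_isAlgClosed (pullback.snd f g)
  have : IsSchemeTheoreticallyDominant g := .of_isDominant g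
  exact IsSchemeTheoreticallyDominant.isReduced (pullback.fst f g)

/-- over a field of characteristic zero, a group scheme locally of finite type is geometrically
reduced -/
theorem geometricallyReduced_of_charZero [CharZero K] : GeometricallyReduced f := by
  rw [geometricallyReduced_iff, geometrically_iff_of_commRing_of_isClosedUnderIsomorphisms]
  intro K' _ _
  let g : Spec (.of K') ⟶ Spec (.of K) := Spec.map (CommRingCat.ofHom <| algebraMap K K')
  let _ : GrpObj (Over.mk (pullback.snd f g)) := Over.grpObjMkPullbackSnd
  have : CharZero K' := charZero_of_injective_algebraMap (algebraMap K K').injective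
  exact isReduced_of_charZero (pullback.snd f g)

/-- **Cartier's theorem**: over a field of characteristic zero, a group scheme locally of finite
type is smooth. -/
theorem smooth_of_charZero [CharZero K] : Smooth f := by
  have := geometricallyReduced_of_charZero f
  exact smooth_of_grpObj f

end General

end Groth.Agent.Lib.Helper6.Cartier
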